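import Mathlib.NumberTheory.NumberField.Completion.FinitePlace
import Mathlib.NumberTheory.RamificationInertia.Galois
import Mathlib.Analysis.Normed.Unbundled.SpectralNorm
import Mathlib.FieldTheory.Galois.Infinite
import Mathlib.FieldTheory.IsAlgClosed.AlgebraicClosure
import Mathlib.FieldTheory.Finite.Basic
import Mathlib.FieldTheory.Galois.IsGaloisGroup

/-! Decomposition groups at unramified places of number fields. -/

set_option autoImplicit false

noncomputable section

universe u

open NumberField IsDedekindDomain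
open scoped Pointwise

namespace Groth.Agent.AffGal

variable {K M : Type u} [Field K] [NumberField K] [Field M] [NumberField M] [Algebra K M] [IsGalois K M]
  (w : HeightOneSpectrum (𝓞 K))

/-- The restrictions to `M` of the automorphisms of an algebraic closure of the completion. -/
def dec (j : M →ₐ[K] AlgebraicClosure (w.adicCompletion K)) : Set (M ≃ₐ[K] M) :=
  {g | ∃ τ : AlgebraicClosure (w.adicCompletion K) ≃ₐ[w.adicCompletion K]
      AlgebraicClosure (w.adicCompletion K), ∀ x : M, τ (j x) = j (g x)}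

theorem exists_dec (j : M →ₐ[K] AlgebraicClosure (w.adicCompletion K))
    (τ : AlgebraicClosure (w.adicCompletion K) ≃ₐ[w.adicCompletion K]
      AlgebraicClosure (w.adicCompletion K)) :
    ∃ g : M ≃ₐ[K] M, ∀ x : M, τ (j x) = j (g x) := by
  letI : Algebra M (AlgebraicClosure (w.adicCompletion K)) := j.toRingHom.toAlgebra
  haveI : IsScalarTower K M (AlgebraicClosure (w.adicCompletion K)) :=
    IsScalarTower.of_algebraMap_eq fun a => (j.commutes a).symm
  exact ⟨(τ.restrictScalars K).restrictNormal M,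
    fun x => (AlgEquiv.restrictNormal_commutes (τ.restrictScalars K) M x).symm⟩

/-- The descent of an embedding fixed by every automorphism. -/
theorem nonempty_algHom_of_fixed {F : Type u} [Field F] [Algebra K F]
    (φ : F →ₐ[K] AlgebraicClosure (w.adicCompletion K))
    (h : ∀ (τ : AlgebraicClosure (w.adicCompletion K) ≃ₐ[w.adicCompletion K]
      AlgebraicClosure (w.adicCompletion K)) (x : F), τ (φ x) = φ x) :
    Nonempty (F →ₐ[K] w.adicCompletion K) := by
  haveI : CharZero (w.adicCompletion K) := charZero_of_injective_algebraMap (algebraMap K _).injective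
  haveI : IsGalois (w.adicCompletion K) (AlgebraicClosure (w.adicCompletion K)) := {}
  let i := IsScalarTower.toAlgHom K (w.adicCompletion K) (AlgebraicClosure (w.adicCompletion K))
  have hmem : ∀ x : F, φ x ∈ i.range := fun x => by
    obtain ⟨y, hy⟩ := (InfiniteGalois.mem_range_algebraMap_iff_fixed (φ x)).2 fun τ => h τ x
    exact ⟨y, hy⟩
  exact ⟨((AlgEquiv.ofInjective i (fun a b h => (algebraMap (w.adicCompletion K) (AlgebraicClosure (w.adicCompletion K))).injective h)).symm :
    i.range →ₐ[K] _).comp (φ.codRestrict i.range hmem)⟩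

/-- The inertia group of a prime above a place unramified in `L` fixes every conjugate of `L`. -/
theorem inertia_le {L : Type u} [Field L] [NumberField L] [Algebra K L] (φ : L →ₐ[K] M)
    (Q : Ideal (𝓞 M)) [Q.IsPrime] (hQ : Q.LiesOver w.asIdeal)
    (hunr : ∀ P : Ideal (𝓞 L), P.IsPrime → P.LiesOver w.asIdeal → P.ramificationIdx (𝓞 K) = 1)
    (g : M ≃ₐ[K] M) (hg : g ∈ Q.inertia (M ≃ₐ[K] M)) (x : L) : g (φ x) = φ x := by
  letI : Algebra L M := φ.toRingHom.toAlgebra
  haveI : IsScalarTower K L M := IsScalarTower.of_algebraMap_eq fun a => (φ.commutes a).symm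
  haveI : IsGalois L M := IsGalois.tower_top_of_isGalois K L M
  haveI : FiniteDimensional L M := FiniteDimensional.right K L M
  haveI := hQ
  let P : Ideal (𝓞 L) := Q.under (𝓞 L)
  haveI : P.IsPrime := inferInstance
  haveI hQP : Q.LiesOver P := ⟨rfl⟩
  haveI : P.LiesOver w.asIdeal := Ideal.LiesOver.tower_bot Q P w.asIdeal
  haveI hwmax : w.asIdeal.IsMaximal := w.isMaximal
  have hP0 : P ≠ ⊥ := Ideal.ne_bot_of_liesOver_of_ne_bot w.ne_bot P
  haveI : P.IsMaximal := Ideal.IsPrime.isMaximal inferInstance hP0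
  haveI : Finite (𝓞 K ⧸ w.asIdeal) := Ideal.finiteQuotientOfFreeOfNeBot _ w.ne_bot
  haveI : Finite (𝓞 L ⧸ P) := Ideal.finiteQuotientOfFreeOfNeBot _ hP0
  haveI : Finite w.asIdeal.ResidueField := Finite.of_surjective _
    w.asIdeal.bijective_algebraMap_quotient_residueField.surjective
  haveI : Finite P.ResidueField := Finite.of_surjective _
    P.bijective_algebraMap_quotient_residueField.surjective
  haveI : PerfectField w.asIdeal.ResidueField := inferInstance
  haveI : PerfectField P.ResidueField := inferInstance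
  have h1 : Nat.card (Q.inertia (M ≃ₐ[K] M)) = Q.ramificationIdx (𝓞 K) := by
    rw [Ideal.card_inertia_eq_ramificationIdxIn w.asIdeal Q,
      Ideal.ramificationIdxIn_eq_ramificationIdx w.asIdeal Q (M ≃ₐ[K] M)]
  have h2 : Nat.card (Q.inertia (M ≃ₐ[L] M)) = Q.ramificationIdx (𝓞 L) := by
    rw [Ideal.card_inertia_eq_ramificationIdxIn P Q,
      Ideal.ramificationIdxIn_eq_ramificationIdx P Q (M ≃ₐ[L] M)]
  have h3 : Q.ramificationIdx (𝓞 K) = Q.ramificationIdx (𝓞 L) := by
    rw [Ideal.ramificationIdx_tower (R := 𝓞 K) (q := P), hunr P inferInstance inferInstance, one_mul]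
  let r : Q.inertia (M ≃ₐ[L] M) → Q.inertia (M ≃ₐ[K] M) := fun s =>
    ⟨s.1.restrictScalars K, fun z => s.2 z⟩
  have hr : Function.Injective r := fun s t h =>
    Subtype.ext (AlgEquiv.restrictScalars_injective K (congrArg Subtype.val h))
  haveI : Finite (M ≃ₐ[K] M) := inferInstance
  obtain ⟨s, hs⟩ := (hr.bijective_of_nat_card_le (le_of_eq (h1.trans (h3.trans h2.symm)))).2 ⟨g, hg⟩
  have := congrArg (fun t : Q.inertia (M ≃ₐ[K] M) => t.1 (φ x)) hs
  exact this.symm.trans (s.1.commutes x)

/-- Over a place unramified in `L` the decomposition group of a field generated by conjugates of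
`L` is commutative. -/
theorem dec_comm {L : Type u} [Field L] [NumberField L] [Algebra K L]
    (hgen : ∀ g : M ≃ₐ[K] M, (∀ (φ : L →ₐ[K] M) (x : L), g (φ x) = φ x) → g = 1)
    (hunr : ∀ P : Ideal (𝓞 L), P.IsPrime → P.LiesOver w.asIdeal → P.ramificationIdx (𝓞 K) = 1)
    (j : M →ₐ[K] AlgebraicClosure (w.adicCompletion K)) {g g' : M ≃ₐ[K] M}
    (hg : g ∈ dec w j) (hg' : g' ∈ dec w j) : g * g' = g' * g := by
  letI : NontriviallyNormedField (w.adicCompletion K) :=
    Valued.toNontriviallyNormedField (w.adicCompletion K) (WithZero (Multiplicative ℤ))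
  haveI : IsUltrametricDist (w.adicCompletion K) := inferInstance
  let N : MulAlgebraNorm (w.adicCompletion K) (AlgebraicClosure (w.adicCompletion K)) :=
    spectralMulAlgNorm (w.adicCompletion K) (AlgebraicClosure (w.adicCompletion K))
  have hNext : ∀ a : K, N (j (algebraMap K M a)) = ‖algebraMap K (w.adicCompletion K) a‖ := fun a => by
    rw [AlgHom.commutes, IsScalarTower.algebraMap_apply K (w.adicCompletion K)]
    exact spectralNorm_extends _
  have hna : ∀ x y, N (x + y) ≤ max (N x) (N y) := fun x y => isNonarchimedean_spectralNorm x y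
  have hinv : ∀ (τ : AlgebraicClosure (w.adicCompletion K) ≃ₐ[w.adicCompletion K]
      AlgebraicClosure (w.adicCompletion K)) (x : AlgebraicClosure (w.adicCompletion K)),
      N (τ x) = N x := fun τ x => (spectralNorm_eq_of_equiv τ x).symm
  have hK1 : ∀ a : 𝓞 K, ‖algebraMap K (w.adicCompletion K) a‖ ≤ 1 := fun a =>
    NumberField.FinitePlace.norm_le_one K w a
  have hle : ∀ z : 𝓞 M, N (j z) ≤ 1 := by
    intro z
    by_contra! hlt
    obtain ⟨q, hq, hqz⟩ := (Algebra.IsIntegral.isIntegral (R := 𝓞 K) z)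
    set y := j z with hy
    have h0 : y ^ q.natDegree = -∑ i ∈ Finset.range q.natDegree,
        j (algebraMap K M (q.coeff i : K)) * y ^ i := by
      have h := congrArg (fun t : 𝓞 M => j (t : M)) hqz
      rw [Polynomial.eval₂_eq_sum_range, Finset.sum_range_succ, hq.coeff_natDegree] at h
      simp only [map_one, one_mul, map_add, map_sum, map_mul, map_pow, map_zero] at h
      rw [eq_neg_iff_add_eq_zero, add_comm]
      exact h
    have hb : ∀ i ∈ Finset.range q.natDegree,
        N (j (algebraMap K M (q.coeff i : K)) * y ^ i) < N y ^ q.natDegree := fun i hi => by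
      rw [map_mul, map_pow, hNext]
      exact (mul_le_of_le_one_left (by positivity) (hK1 _)).trans_lt
        (pow_lt_pow_right₀ hlt (Finset.mem_range.1 hi))
    have h1 : N (∑ i ∈ Finset.range q.natDegree, j (algebraMap K M (q.coeff i : K)) * y ^ i) <
        N y ^ q.natDegree := by
      refine Finset.sum_induction _ (fun t => N t < N y ^ q.natDegree)
        (fun a b ha hb => (hna a b).trans_lt (max_lt ha hb)) ?_ hb
      rw [map_zero]
      positivity
    rw [← map_neg_eq_map, ← h0, map_pow] at h1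
    exact lt_irrefl _ h1
  let Q : Ideal (𝓞 M) :=
    { carrier := {z | N (j z) < 1}
      add_mem' := fun {a b} ha hb => by
        show N (j ((a : M) + (b : M))) < 1
        rw [map_add]
        exact (hna _ _).trans_lt (max_lt ha hb)
      zero_mem' := by simp
      smul_mem' := fun a b hb => by
        show N (j ((a : M) * (b : M))) < 1
        rw [map_mul, map_mul]
        exact mul_lt_one_of_nonneg_of_lt_one_right (hle a) (apply_nonneg N _) hb }
  have hQmem : ∀ z : 𝓞 M, z ∈ Q ↔ N (j z) < 1 := fun z => Iff.rfl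
  haveI hQp : Q.IsPrime := by
    refine ⟨fun h => ?_, fun {a b} hab => ?_⟩
    · have := (hQmem 1).1 (h ▸ Submodule.mem_top)
      simp at this
    · by_contra h
      rw [not_or, hQmem, hQmem, not_lt, not_lt] at h
      rw [hQmem] at hab
      change N (j ((a : M) * (b : M))) < 1 at hab
      rw [map_mul, map_mul] at hab
      have := le_antisymm (hle a) h.1
      have := le_antisymm (hle b) h.2
      simp_all
  haveI hQw : Q.LiesOver w.asIdeal := by
    refine ⟨?_⟩
    ext a
    rw [Ideal.under_def, Ideal.mem_comap, hQmem]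
    show _ ↔ N (j ((algebraMap (𝓞 K) (𝓞 M) a : 𝓞 M) : M)) < 1
    rw [show ((algebraMap (𝓞 K) (𝓞 M) a : 𝓞 M) : M) = algebraMap K M (a : K) from rfl, hNext]
    exact (NumberField.FinitePlace.norm_lt_one_iff_mem K w a).symm
  have hstab : ∀ s ∈ dec w j, s ∈ MulAction.stabilizer (M ≃ₐ[K] M) Q := by
    rintro s ⟨τ, hτ⟩
    rw [MulAction.mem_stabilizer_iff]
    ext z
    rw [Ideal.pointwise_smul_eq_comap, Ideal.mem_comap, hQmem, hQmem]
    show N (j ((s⁻¹ • z : 𝓞 M) : M)) < 1 ↔ _
    have : j ((z : 𝓞 M) : M) = τ (j ((s⁻¹ • z : 𝓞 M) : M)) := by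
      rw [hτ]
      congr 1
      show (z : M) = s (s⁻¹ (z : M))
      exact (AlgEquiv.apply_symm_apply s _).symm
    rw [this, hinv]
  have hI : Q.inertia (M ≃ₐ[K] M) = ⊥ := by
    rw [eq_bot_iff]
    exact fun s hs => Subgroup.mem_bot.2 (hgen s fun φ x => inertia_le w φ Q hQw hunr s hs x)
  haveI hwmax : w.asIdeal.IsMaximal := w.isMaximal
  have hQ0 : Q ≠ ⊥ := Ideal.ne_bot_of_liesOver_of_ne_bot w.ne_bot Q
  haveI : Q.IsMaximal := Ideal.IsPrime.isMaximal inferInstance hQ0
  haveI : Finite (𝓞 M ⧸ Q) := Ideal.finiteQuotientOfFreeOfNeBot _ hQ0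
  letI : Field (𝓞 M ⧸ Q) := Ideal.Quotient.field Q
  letI : Field (𝓞 K ⧸ w.asIdeal) := Ideal.Quotient.field w.asIdeal
  let ρ := Ideal.Quotient.stabilizerHom Q w.asIdeal (M ≃ₐ[K] M)
  have hρ : Function.Injective ρ := by
    rw [← MonoidHom.ker_eq_bot_iff, Ideal.Quotient.ker_stabilizerHom, eq_bot_iff]
    intro s hs
    exact Subgroup.mem_bot.2 (Subtype.ext (Subgroup.mem_bot.1 (hI ▸ (hs : s.1 ∈ Q.inertia (M ≃ₐ[K] M)))))
  letI := (IsCyclic.commGroup : CommGroup ((𝓞 M ⧸ Q) ≃ₐ[𝓞 K ⧸ w.asIdeal] (𝓞 M ⧸ Q)))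
  have : (⟨g, hstab g hg⟩ : MulAction.stabilizer (M ≃ₐ[K] M) Q) * ⟨g', hstab g' hg'⟩ =
      ⟨g', hstab g' hg'⟩ * ⟨g, hstab g hg⟩ := hρ (by rw [map_mul, map_mul, mul_comm])
  exact congrArg Subtype.val this

end Groth.Agent.AffGal

end
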