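import Groth.Agent.AffGal.Local
import Mathlib.FieldTheory.Normal.Closure
import Mathlib.RingTheory.IntegralDomain
import Mathlib.GroupTheory.SpecificGroups.Cyclic

/-! Number fields of prime degree with affine Galois action. -/

set_option autoImplicit false

noncomputable section

universe u

open NumberField IsDedekindDomain

namespace Groth.Agent.AffGal

/-- A set of commuting affine permutations containing a non-translation has a common fixed point. -/
theorem exists_common_fixed {G S : Type*} [Monoid G] {p : ℕ} [Fact p.Prime] (act : G → S → S)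
    (hact : ∀ g h s, act (g * h) s = act g (act h s)) (e : S ≃ ZMod p) (a b : G → ZMod p)
    (hab : ∀ g s, e (act g s) = a g * e s + b g) (D : Set G)
    (hD : ∀ g ∈ D, ∀ h ∈ D, g * h = h * g) {g : G} (hg : g ∈ D) (ha : a g ≠ 1) :
    ∃ s, ∀ h ∈ D, act h s = s := by
  have hne : 1 - a g ≠ 0 := sub_ne_zero.2 (Ne.symm ha)
  let s := e.symm (b g / (1 - a g))
  have hfix : ∀ t, act g t = t ↔ t = s := fun t => by
    rw [← e.apply_eq_iff_eq, hab, ← e.apply_eq_iff_eq (x := t), e.apply_symm_apply, eq_div_iff hne]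
    constructor <;> intro h <;> linear_combination -h
  refine ⟨s, fun h hh => (hfix _).1 ?_⟩
  rw [← hact, hD g hg h hh, hact, (hfix s).2 rfl]

/-- The linear part of an affine action, as a character. -/
theorem exists_char {G S : Type*} [Group G] {p : ℕ} [Fact p.Prime] (act : G → S → S)
    (hone : ∀ s, act 1 s = s) (hact : ∀ g h s, act (g * h) s = act g (act h s)) (e : S ≃ ZMod p)
    (a b : G → ZMod p) (hab : ∀ g s, e (act g s) = a g * e s + b g) :
    ∃ χ : G →* (ZMod p)ˣ, ∀ g, (χ g : ZMod p) = a g := by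
  have hu : ∀ g (x : ZMod p) (y : ZMod p), (∀ s, e (act g s) = x * e s + y) → a g = x := fun g x y h => by
    have h0 := (hab g (e.symm 0)).symm.trans (h _)
    have h1 := (hab g (e.symm 1)).symm.trans (h _)
    simp only [Equiv.apply_symm_apply, mul_zero, zero_add, mul_one] at h0 h1
    linear_combination h1 - h0
  have h1 : a 1 = 1 := hu 1 1 0 fun s => by rw [hone, one_mul, add_zero]
  have hm : ∀ g h, a (g * h) = a g * a h := fun g h => hu _ _ (a g * b h + b g) fun s => by
    rw [hact, hab, hab]; ring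
  exact ⟨MonoidHom.toHomUnits { toFun := a, map_one' := h1, map_mul' := hm }, fun g => rfl⟩

theorem main (K L Ω : Type u) [Field K] [NumberField K]
    [Field L] [NumberField L] [Algebra K L] [Field Ω] [Algebra K Ω] [IsAlgClosure K Ω]
    (p : ℕ) (hp : p.Prime) (e : (L →ₐ[K] Ω) ≃ ZMod p)
    (haff : ∀ σ : Ω ≃ₐ[K] Ω, ∃ a b : ZMod p, a ≠ 0 ∧
      ∀ φ : L →ₐ[K] Ω, e (σ.toAlgHom.comp φ) = a * e φ + b)
    (hnab : IsGalois K L → ∃ σ τ : L ≃ₐ[K] L, σ * τ ≠ τ * σ) :
    ∃ E : IntermediateField K Ω, E ≤ IntermediateField.normalClosure K L Ω ∧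
      FiniteDimensional K E ∧ IsGalois K E ∧ IsCyclic (E ≃ₐ[K] E) ∧ 1 < Module.finrank K E ∧
      ∀ w : IsDedekindDomain.HeightOneSpectrum (NumberField.RingOfIntegers K),
        (∀ P : Ideal (NumberField.RingOfIntegers L), P.IsPrime → P.LiesOver w.asIdeal →
          P.ramificationIdx (NumberField.RingOfIntegers K) = 1) →
        Nonempty (E →ₐ[K] w.adicCompletion K) ∨ Nonempty (L →ₐ[K] w.adicCompletion K) := by
  haveI : Fact p.Prime := ⟨hp⟩
  haveI : IsAlgClosed Ω := IsAlgClosure.isAlgClosed K
  haveI : Algebra.IsAlgebraic K Ω := IsAlgClosure.isAlgebraic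
  haveI : IsGalois K Ω := {}
  let M : IntermediateField K Ω := IntermediateField.normalClosure K L Ω
  haveI : FiniteDimensional K M := inferInstance
  haveI : IsGalois K M := {}
  haveI : NumberField M := NumberField.of_module_finite K M
  -- the embeddings into the normal closure
  let θ : (L →ₐ[K] M) ≃ (L →ₐ[K] Ω) :=
    { toFun := fun φ => M.val.comp φ
      invFun := fun φ => φ.codRestrict M.toSubalgebra fun x => AlgHom.fieldRange_le_normalClosure φ ⟨x, rfl⟩
      left_inv := fun φ => AlgHom.ext fun x => Subtype.ext rfl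
      right_inv := fun φ => AlgHom.ext fun x => rfl }
  let act : (M ≃ₐ[K] M) → (L →ₐ[K] M) → (L →ₐ[K] M) := fun g φ => g.toAlgHom.comp φ
  have haffM : ∀ g : M ≃ₐ[K] M, ∃ a b : ZMod p, ∀ φ, (θ.trans e) (act g φ) = a * (θ.trans e) φ + b := by
    intro g
    obtain ⟨σ, hσ⟩ := AlgEquiv.restrictNormalHom_surjective (E := Ω) g
    obtain ⟨a, b, -, h⟩ := haff σ
    refine ⟨a, b, fun φ => ?_⟩
    show e (θ (act g φ)) = a * e (θ φ) + b
    rw [← h]
    congr 1
    refine AlgHom.ext fun x => ?_
    show ((g (φ x) : M) : Ω) = σ ((φ x : M) : Ω)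
    rw [← hσ]
    exact AlgEquiv.restrictNormal_commutes σ M (φ x)
  choose a b hab using haffM
  have hone : ∀ φ, act 1 φ = φ := fun φ => AlgHom.ext fun x => rfl
  have hact : ∀ g h φ, act (g * h) φ = act g (act h φ) := fun g h φ => AlgHom.ext fun x => rfl
  obtain ⟨χ, hχ⟩ := exists_char act hone hact (θ.trans e) a b hab
  have hgen : ∀ g : M ≃ₐ[K] M, (∀ (φ : L →ₐ[K] M) (x : L), g (φ x) = φ x) → g = 1 := by
    intro g hg
    let F : IntermediateField K M := IntermediateField.fixedField (Subgroup.zpowers g)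
    have hF : ∀ z ∈ F, g z = z := fun z hz =>
      (IntermediateField.mem_fixedField_iff _ _).1 hz g (Subgroup.mem_zpowers g)
    have hFmem : ∀ z, g z = z → z ∈ F := fun z hz => by
      refine (IntermediateField.mem_fixedField_iff _ _).2 fun f hf => ?_
      exact (Subgroup.zpowers_le.2 (show g ∈ MulAction.stabilizer (M ≃ₐ[K] M) z from hz) hf : f • z = z)
    refine AlgEquiv.ext fun z => hF z ?_
    have hle : M ≤ IntermediateField.lift F := by
      refine iSup_le fun φ => ?_
      rintro _ ⟨x, rfl⟩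
      exact (IntermediateField.mem_lift (θ.symm φ x)).2 (hFmem _ (hg _ x))
    exact (IntermediateField.mem_lift z).1 (hle z.2)
  let T : Subgroup (M ≃ₐ[K] M) := χ.ker
  have hTmem : ∀ g, g ∈ T ↔ a g = 1 := fun g => by
    rw [MonoidHom.mem_ker, Units.ext_iff, hχ, Units.val_one]
  let E₀ : IntermediateField K M := IntermediateField.fixedField T
  haveI : T.Normal := MonoidHom.normal_ker χ
  haveI : IsGalois K E₀ := IsGalois.of_fixedField_normal_subgroup T
  have hcyc : IsCyclic (E₀ ≃ₐ[K] E₀) := by
    haveI : IsCyclic ((M ≃ₐ[K] M) ⧸ T) := (MulEquiv.isCyclic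
      (QuotientGroup.quotientKerEquivRange χ)).2 inferInstance
    exact (MulEquiv.isCyclic (IsGalois.normalAutEquivQuotient T)).1 inferInstance
  have hnt : T ≠ ⊤ := by
    intro htop
    have ha1 : ∀ g, a g = 1 := fun g => (hTmem g).1 (htop ▸ Subgroup.mem_top g)
    have hinj : Function.Injective b := fun g h hgh => by
      rw [← inv_mul_eq_one]
      refine hgen _ fun φ x => ?_
      have e1 : act g φ = act h φ := (θ.trans e).injective (by rw [hab, hab, ha1, ha1, hgh])
      have e2 : act (g⁻¹ * h) φ = φ := by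
        rw [hact, ← e1, ← hact, inv_mul_cancel, hone]
      exact DFunLike.congr_fun e2 x
    have hcomm : ∀ g h : M ≃ₐ[K] M, g * h = h * g := fun g h => by
      rw [← mul_inv_eq_one]
      refine hgen _ fun φ x => ?_
      have e1 : act (g * h) φ = act (h * g) φ := (θ.trans e).injective (by
        rw [hact, hact, hab, hab, hab, hab, ha1, ha1]; ring)
      have e2 : act ((g * h) * (h * g)⁻¹) (act (h * g) φ) = act (g * h) φ := by
        rw [← hact, inv_mul_cancel_right]
      have e3 : ∀ ψ, act ((g * h) * (h * g)⁻¹) ψ = ψ := fun ψ => by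
        obtain ⟨φ', rfl⟩ : ∃ φ', act (h * g) φ' = ψ := ⟨act (h * g)⁻¹ ψ, by rw [← hact, mul_inv_cancel, hone]⟩
        rw [← hact, inv_mul_cancel_right]
        exact (θ.trans e).injective (by rw [hact, hact, hab, hab, hab, hab, ha1, ha1]; ring)
      exact DFunLike.congr_fun (e3 φ) x
    obtain ⟨φ⟩ : Nonempty (L →ₐ[K] M) := ⟨(θ.trans e).symm 0⟩
    have hcard : Module.finrank K L = p := by
      have h1 := AlgHom.card K L Ω
      rw [Fintype.card_congr e, ZMod.card] at h1
      exact h1.symm
    have hle : Module.finrank K M ≤ Module.finrank K L := by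
      rw [hcard, ← IsGalois.card_aut_eq_finrank K M]
      exact (Nat.card_le_card_of_injective b hinj).trans (le_of_eq (Nat.card_zmod p))
    have hsurj : Function.Surjective φ := by
      refine (LinearMap.injective_iff_surjective_of_finrank_eq_finrank ?_ (f := φ.toLinearMap)).1 φ.injective
      exact le_antisymm (φ.toLinearMap.finrank_le_finrank_of_injective φ.injective) hle
    let eq : L ≃ₐ[K] M := AlgEquiv.ofBijective φ ⟨φ.injective, hsurj⟩
    obtain ⟨σ, τ, hστ⟩ := hnab (IsGalois.of_algEquiv eq.symm)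
    exact hστ (eq.autCongr.injective (by rw [map_mul, map_mul, hcomm]))
  have hrank : 1 < Module.finrank K E₀ := by
    by_contra! h
    have h1 : Module.finrank K E₀ = 1 := le_antisymm h Module.finrank_pos
    rw [IntermediateField.finrank_eq_one_iff] at h1
    refine hnt ?_
    rw [← IntermediateField.fixingSubgroup_fixedField T]
    show E₀.fixingSubgroup = ⊤
    rw [h1, IntermediateField.fixingSubgroup_bot]
  let eE : E₀ ≃ₐ[K] IntermediateField.lift E₀ := IntermediateField.liftAlgEquiv E₀
  refine ⟨IntermediateField.lift E₀, IntermediateField.lift_le E₀, Module.Finite.equiv eE.toLinearEquiv,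
    IsGalois.of_algEquiv eE, (MulEquiv.isCyclic eE.autCongr).1 hcyc, eE.toLinearEquiv.finrank_eq ▸ hrank,
    fun w hw => ?_⟩
  let j : M →ₐ[K] AlgebraicClosure (w.adicCompletion K) := IsAlgClosed.lift
  by_cases hD : ∀ g ∈ dec w j, a g = 1
  · left
    refine (nonempty_algHom_of_fixed w (j.comp E₀.val) fun τ x => ?_).map fun f => f.comp eE.symm.toAlgHom
    obtain ⟨g, hg⟩ := exists_dec w j τ
    show τ (j (x : M)) = j (x : M)
    rw [hg, (IntermediateField.mem_fixedField_iff _ _).1 x.2 g ((hTmem g).2 (hD g ⟨τ, hg⟩))]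
  · right
    push_neg at hD
    obtain ⟨g, hg, hga⟩ := hD
    obtain ⟨φ, hφ⟩ := exists_common_fixed act hact (θ.trans e) a b hab (dec w j)
      (fun s hs t ht => dec_comm w hgen hw j hs ht) hg hga
    refine nonempty_algHom_of_fixed w (j.comp φ) fun τ x => ?_
    obtain ⟨s, hs⟩ := exists_dec w j τ
    show τ (j (φ x)) = j (φ x)
    rw [hs]
    exact congrArg j (DFunLike.congr_fun (hφ s ⟨τ, hs⟩) x)

end Groth.Agent.AffGal

end
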